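/-
An automorphism of order `p` of a homocyclic-like abelian group of rank two and exponent `p ^ 2`.

* `linear_core`: if it moves an element of order `p` then `p = 3` and its fixed points form a subgroup
  of order `p` killed by `p`.
-/
import Cfsg.Agent.EqLemmas

set_option autoImplicit false

namespace Cfsg.Agent.MetaAutOrd

theorem linear_core {V : Type*} [AddCommGroup V] [Finite V] {p : ℕ} [Fact p.Prime] (hp2 : p ≠ 2)
    (hexp : ∀ x : V, p • (p • x) = 0) (hran : ∀ x : V, p • x = 0 → ∃ y, p • y = x)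
    (hcard : Nat.card {x : V // p • x = 0} = p ^ 2)
    (f : AddMonoid.End V) (hf : f ^ p = 1) (hne : ∃ x, p • x = 0 ∧ f x ≠ x) :
    p = 3 ∧ (∀ x, f x = x → p • x = 0) ∧ Nat.card {x : V // f x = x} = p := by
  classical
  have hp : p.Prime := Fact.out
  set N : AddMonoid.End V := f - 1 with hN
  have hNx : ∀ x, N x = f x - x := fun x => rfl
  have hNsmul : ∀ (k n : ℕ) (x : V), (N ^ k) (n • x) = n • (N ^ k) x := fun k n x => map_nsmul _ _ _
  have hNs : ∀ (n : ℕ) (x : V), N (n • x) = n • N x := fun n x => map_nsmul _ _ _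
  have hpow : ∀ (k : ℕ) (x : V), (N ^ (k + 1)) x = N ((N ^ k) x) := fun k x => by
    rw [pow_succ']; rfl
  let K : AddSubgroup V := (nsmulAddMonoidHom p : V →+ V).ker
  have memK : ∀ x, x ∈ K ↔ p • x = 0 := fun x => Iff.rfl
  have hKcard : Nat.card K = p ^ 2 := hcard
  -- the expansion of `f ^ p`
  have hexpand : ∀ x : V, (∑ k ∈ Finset.range (p + 1), p.choose k • (N ^ k) x) = x := by
    intro x
    have h1 : f = N + 1 := by rw [hN, sub_add_cancel]
    have h2 : (N + 1) ^ p = 1 := by rw [← h1, hf]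
    rw [(Commute.one_right N).add_pow] at h2
    simp only [one_pow, mul_one] at h2
    have h3 := DFunLike.congr_fun h2 x
    refine Eq.trans ?_ h3
    let ev : AddMonoid.End V →+ V := ⟨⟨fun g => g x, rfl⟩, fun _ _ => rfl⟩
    change _ = ev (∑ k ∈ Finset.range (p + 1), N ^ k * (p.choose k : AddMonoid.End V))
    rw [map_sum]
    refine Finset.sum_congr rfl fun k _ => ?_
    rw [← map_nsmul]
    rfl
  -- on `K` the map `N` is nilpotent
  have hNpK : ∀ x ∈ K, (N ^ p) x = 0 := by
    intro x hx
    have h := hexpand x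
    rw [Finset.sum_range_succ, Nat.choose_self, one_smul,
      Finset.sum_eq_single 0 ?_ (fun h0 => absurd (Finset.mem_range.mpr hp.pos) h0)] at h
    · simpa using h
    · intro k hk hk0
      obtain ⟨c, hc⟩ := hp.dvd_choose_self hk0 (Finset.mem_range.mp hk)
      rw [hc, mul_comm, mul_smul, ← hNsmul, (memK x).mp hx, map_zero, smul_zero]
  have hNK : ∀ x ∈ K, N x ∈ K := fun x hx => by
    rw [memK, ← hNs, (memK x).mp hx, map_zero]
  -- a subgroup of `K` equal to its image is trivial
  have hstable : ∀ A : AddSubgroup V, A ≤ K → A ≤ A.map N → A = ⊥ := by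
    intro A hAK hA
    refine (AddSubgroup.eq_bot_iff_forall _).mpr fun a ha => ?_
    have hk : ∀ k : ℕ, ∀ a ∈ A, ∃ b ∈ A, (N ^ k) b = a := by
      intro k
      induction k with
      | zero => exact fun a ha => ⟨a, ha, rfl⟩
      | succ k ih =>
        intro a ha
        obtain ⟨b, hb, rfl⟩ := hA ha
        obtain ⟨c, hc, rfl⟩ := ih b hb
        exact ⟨c, hc, hpow k c⟩
    obtain ⟨b, hb, rfl⟩ := hk p a ha
    exact hNpK b (hAK hb)
  set T : AddSubgroup V := K.map N with hT
  have hTK : T ≤ K := by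
    rintro _ ⟨x, hx, rfl⟩; exact hNK x hx
  have hTne : T ≠ ⊥ := by
    obtain ⟨x, hx, hfx⟩ := hne
    intro h
    have : N x ∈ T := ⟨x, hx, rfl⟩
    rw [h, AddSubgroup.mem_bot, hNx, sub_eq_zero] at this
    exact hfx this
  have hTlt : T ≠ K := fun h => by
    have := hstable K le_rfl h.ge
    rw [this] at hKcard
    simp at hKcard
    exact absurd hKcard (Nat.one_lt_pow two_ne_zero hp.one_lt).ne
  have hTcard : Nat.card T = p := by
    have hd : Nat.card T ∣ p ^ 2 := hKcard ▸ AddSubgroup.card_dvd_of_le hTK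
    obtain ⟨j, hj, hjT⟩ := (Nat.dvd_prime_pow hp).mp hd
    interval_cases j
    · exact absurd (AddSubgroup.eq_bot_of_card_eq _ (by simpa using hjT)) hTne
    · simpa using hjT
    · exact absurd (AddSubgroup.eq_of_le_of_card_ge hTK (by rw [hjT, hKcard])) hTlt
  have hT2 : ∀ x ∈ T, N x = 0 := by
    intro x hx
    by_contra hne'
    have hxK := hTK hx
    set T2 : AddSubgroup V := T.map N with hT2'
    have hle : T2 ≤ T := by
      rintro _ ⟨y, hy, rfl⟩; exact ⟨y, hTK hy, rfl⟩
    have h2ne : T2 ≠ ⊥ := fun h => hne' (by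
      have : N x ∈ T2 := ⟨x, hx, rfl⟩
      rwa [h, AddSubgroup.mem_bot] at this)
    have : T2 = T := by
      refine AddSubgroup.eq_of_le_of_card_ge hle ?_
      rw [hTcard]
      rcases (Nat.dvd_prime hp).mp (hTcard ▸ AddSubgroup.card_dvd_of_le hle) with h | h
      · exact absurd (AddSubgroup.eq_bot_of_card_eq _ h) h2ne
      · exact h.ge
    exact hTne (hstable T hTK this.ge)
  have hN2 : ∀ x ∈ K, N (N x) = 0 := fun x hx => hT2 _ ⟨x, hx, rfl⟩
  have hfix : ∀ x ∈ K, N x = 0 → x ∈ T := by
    intro x hx hx0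
    let g : K →+ V := N.comp K.subtype
    have hr : g.range = T := by
      rw [hT]
      ext v
      constructor
      · rintro ⟨w, rfl⟩; exact ⟨w, w.2, rfl⟩
      · rintro ⟨w, hw, rfl⟩; exact ⟨⟨w, hw⟩, rfl⟩
    have hk : Nat.card g.ker = p := by
      have h := g.ker.card_mul_index
      rw [AddSubgroup.index_ker, hr, hTcard, hKcard, sq] at h
      exact Nat.eq_of_mul_eq_mul_right hp.pos h
    have hTker : T.addSubgroupOf K ≤ g.ker := fun w hw => hT2 _ hw
    have heq : T.addSubgroupOf K = g.ker := by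
      refine AddSubgroup.eq_of_le_of_card_ge hTker (le_of_eq ?_)
      rw [hk, Nat.card_congr (AddSubgroup.addSubgroupOfEquivOfLe hTK).toEquiv, hTcard]
    have hmem : (⟨x, hx⟩ : K) ∈ g.ker := hx0
    rw [← heq] at hmem
    exact hmem
  have hpK : ∀ x : V, p • x ∈ K := fun x => hexp x
  have hkill : ∀ (x : V) (k : ℕ), 2 ≤ k → p • (N ^ k) x = 0 := by
    intro x k hk
    obtain ⟨j, rfl⟩ := Nat.exists_eq_add_of_le' hk
    rw [← hNsmul, pow_add]
    show (N ^ j) ((N ^ 2) (p • x)) = 0
    rw [pow_two]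
    show (N ^ j) (N (N (p • x))) = 0
    rw [hN2 _ (hpK x), map_zero]
  have hrel : ∀ x : V, p • N x + (N ^ p) x = 0 := by
    intro x
    have h := hexpand x
    rw [Finset.sum_range_succ, Nat.choose_self, one_smul] at h
    rw [← Finset.sum_subset (s₁ := {0, 1})] at h
    · rw [Finset.sum_pair (by omega), Nat.choose_zero_right, one_smul, Nat.choose_one_right, pow_zero,
        pow_one] at h
      have h' : x + (p • N x + (N ^ p) x) = x + 0 := by rw [← add_assoc, add_zero]; exact h
      exact add_left_cancel h'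
    · intro k hk
      simp only [Finset.mem_insert, Finset.mem_singleton] at hk
      rw [Finset.mem_range]
      have := hp.two_le
      omega
    · intro k hk hk'
      simp only [Finset.mem_insert, Finset.mem_singleton, not_or] at hk'
      obtain ⟨c, hc⟩ := hp.dvd_choose_self hk'.1 (Finset.mem_range.mp hk)
      rw [hc, mul_comm, mul_smul, hkill x k (by omega), smul_zero]
  have hp3 : p = 3 := by
    by_contra hp3
    have h5 : 4 ≤ p := by have := hp.two_le; omega
    apply hTne
    refine (AddSubgroup.eq_bot_iff_forall _).mpr ?_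
    rintro _ ⟨v, hv, rfl⟩
    obtain ⟨x, rfl⟩ := hran v hv
    have h4 : (N ^ p) x = 0 := by
      obtain ⟨j, rfl⟩ := Nat.exists_eq_add_of_le' h5
      rw [pow_add]
      show (N ^ j) ((N ^ 4) x) = 0
      have hK2 : (N ^ 2) x ∈ K := hkill x 2 le_rfl
      have : (N ^ 4) x = N (N ((N ^ 2) x)) := by rw [← hpow, ← hpow]
      rw [this, hN2 _ hK2, map_zero]
    have := hrel x
    rw [h4, add_zero] at this
    exact (hNs p x).trans this
  have hfixK : ∀ x, f x = x → p • x = 0 := by
    intro x hx
    have hx0 : N x = 0 := by rw [hNx, hx, sub_self]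
    have hpx : p • x ∈ T := hfix _ (hpK x) (by rw [hNs, hx0, smul_zero])
    obtain ⟨k, hk, hkx⟩ := hpx
    obtain ⟨y, rfl⟩ := hran k hk
    have he : p • (x - N y) = 0 := by
      rw [smul_sub, ← hkx, sub_eq_zero]
      exact hNs p y
    have h2 : N (N (x - N y)) = 0 := hN2 _ he
    rw [map_sub, hx0, zero_sub, map_neg, neg_eq_zero] at h2
    have h3 : (N ^ p) y = 0 := by
      rw [show p = 2 + 1 by omega, hpow]
      rw [show (N ^ 2) y = N (N y) by rw [pow_two]; rfl]
      exact h2
    have h4 := hrel y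
    rw [h3, add_zero] at h4
    rw [← hkx]
    exact (hNs p y).trans h4
  refine ⟨hp3, hfixK, ?_⟩
  rw [← hTcard]
  refine Nat.card_congr (Equiv.subtypeEquivRight fun x => ⟨fun hx => ?_, fun hx => ?_⟩)
  · exact hfix x (hfixK x hx) (by rw [hNx, hx, sub_self])
  · have := hT2 x hx
    rwa [hNx, sub_eq_zero] at this

end Cfsg.Agent.MetaAutOrd
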