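/-
Elements of order dividing `p ^ 2` in a metacyclic `p`-group without cyclic subgroup of index `p`, `p` odd,
and the fixed points of an automorphism of order `p`.

* `omega_two`: they form a subgroup of order `p ^ 4` and class at most two
* `fixedPoints_of_moves`: if the automorphism moves an element of order `p` then `p = 3` and it fixes exactly
  `p` elements
-/
import Cfsg.Agent.S0638
import Cfsg.Agent.Lib.MetaAutOrd.Linear
import Cfsg.Agent.Lib.BaerTrick.Basic
import Cfsg.Agent.Lib.RankTwo.Metacyclic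
import Cfsg.Agent.Lib.PGroup.MaximalClass

set_option autoImplicit false
set_option linter.unusedSectionVars false

namespace Cfsg.Agent.MetaAutOrd

open scoped commutatorElement

universe u

variable {L : Type u} [Group L] [Finite L] {p : ℕ} [hp : Fact p.Prime]

theorem nontrivial_noncyclic [Nontrivial L] (hL : IsPGroup p L)
    (hnc : ∀ C : Subgroup L, IsCyclic C → C.index ≠ p) : ¬ IsCyclic L := by
  intro hc
  obtain ⟨k, hk⟩ := IsPGroup.iff_card.mp hL
  have hk0 : k ≠ 0 := by
    rintro rfl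
    exact (Finite.one_lt_card (α := L)).ne' (by simpa using hk)
  obtain ⟨g, hg⟩ := IsCyclic.exists_ofOrder_eq_natCard (α := L)
  refine hnc (Subgroup.zpowers (g ^ p)) inferInstance ?_
  have h1 := (Subgroup.zpowers (g ^ p)).card_mul_index
  rw [Nat.card_zpowers, orderOf_pow, hg, hk, Nat.gcd_eq_right (dvd_pow_self p hk0)] at h1
  obtain ⟨j, rfl⟩ := Nat.exists_eq_succ_of_ne_zero hk0
  rw [pow_succ, Nat.mul_div_cancel _ hp.out.pos] at h1
  exact Nat.eq_of_mul_eq_mul_left (pow_pos hp.out.pos j) h1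

/-- The elements of order dividing `p`, as a subgroup. -/
theorem omega_one (hp2 : p ≠ 2) (hL : IsPGroup p L) (hmc : Cfsg.IsMetacyclic L) (hnC : ¬ IsCyclic L) :
    ∃ E : Subgroup L, E.Normal ∧ IsMulCommutative E ∧ (∀ x, x ∈ E ↔ x ^ p = 1) ∧
      Nat.card E = p ^ 2 := by
  obtain ⟨hel, hcard⟩ := Cfsg.Agent.S0638.result hp2 hL hmc hnC
  have hmem : ∀ x, x ∈ Cfsg.omegaOne p (⊤ : Subgroup L) ↔ x ^ p = 1 := fun x =>
    ⟨fun hx => hel.2 x hx, fun hx => Subgroup.subset_closure ⟨Subgroup.mem_top x, hx⟩⟩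
  refine ⟨_, ⟨fun n hn g => ?_⟩, hel.1, hmem, hcard⟩
  rw [hmem] at hn ⊢
  rw [conj_pow, hn, mul_one, mul_inv_cancel]

theorem quotient_noncyclic (hL : IsPGroup p L) (hnc : ∀ C : Subgroup L, IsCyclic C → C.index ≠ p)
    {E : Subgroup L} [E.Normal] (hmem : ∀ x, x ∈ E ↔ x ^ p = 1) (hcard : Nat.card E = p ^ 2) :
    ¬ IsCyclic (L ⧸ E) := by
  intro hc
  have hcardL : Nat.card L = Nat.card (L ⧸ E) * p ^ 2 := by
    rw [← hcard]; exact E.card_eq_card_quotient_mul_card_subgroup
  obtain ⟨q, hq⟩ := hc.exists_generator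
  obtain ⟨g, rfl⟩ := QuotientGroup.mk_surjective q
  by_cases hg1 : g = 1
  · -- then `L = E`
    subst hg1
    have h1 : Nat.card (L ⧸ E) = 1 := by
      refine Nat.card_eq_one_iff_unique.mpr ⟨⟨fun a b => ?_⟩, ⟨1⟩⟩
      have ha := hq a; have hb := hq b
      rw [QuotientGroup.mk_one, Subgroup.zpowers_one_eq_bot, Subgroup.mem_bot] at ha hb
      rw [ha, hb]
    rw [h1, one_mul] at hcardL
    haveI : Nontrivial L := Finite.one_lt_card_iff_nontrivial.mp
      (hcardL ▸ Nat.one_lt_pow two_ne_zero hp.out.one_lt)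
    obtain ⟨x, hx⟩ := exists_prime_orderOf_dvd_card' p (G := L) (hcardL ▸ dvd_pow_self p two_ne_zero)
    refine hnc (Subgroup.zpowers x) inferInstance ?_
    have h := (Subgroup.zpowers x).card_mul_index
    rw [Nat.card_zpowers, hx, hcardL, sq] at h
    exact Nat.eq_of_mul_eq_mul_left hp.out.pos h
  set C := Subgroup.zpowers g with hC
  let φ : C →* L ⧸ E := (QuotientGroup.mk' E).comp C.subtype
  have hφ : Function.Surjective φ := fun y => by
    obtain ⟨k, rfl⟩ := Subgroup.mem_zpowers_iff.mp (hq y)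
    exact ⟨⟨g ^ k, Subgroup.zpow_mem _ (Subgroup.mem_zpowers g) k⟩, by simp [φ]⟩
  have hk : p ∣ Nat.card φ.ker := by
    have hCne : C ≠ ⊥ := by rwa [hC, Ne, Subgroup.zpowers_eq_bot]
    haveI : Nontrivial C := (Subgroup.nontrivial_iff_ne_bot C).mpr hCne
    obtain ⟨n, hn0, hn⟩ := (IsPGroup.nontrivial_iff_card (hL.to_subgroup C)).mp inferInstance
    obtain ⟨x, hx⟩ := exists_prime_orderOf_dvd_card' p (G := C) (hn ▸ dvd_pow_self p hn0.ne')
    have hxm : x ∈ φ.ker := by
      refine (QuotientGroup.eq_one_iff (x : L)).mpr ((hmem _).mpr ?_)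
      rw [← Subgroup.coe_pow, orderOf_dvd_iff_pow_eq_one.mp hx.dvd, Subgroup.coe_one]
    rw [← hx, ← Subgroup.orderOf_mk x hxm]
    exact orderOf_dvd_natCard _
  have h1 := φ.ker.card_mul_index
  rw [Subgroup.index_ker, MonoidHom.range_eq_top.mpr hφ, Subgroup.card_top] at h1
  have h2 := C.card_mul_index
  rw [← h1, hcardL] at h2
  have h3 : Nat.card φ.ker * C.index = p ^ 2 := by
    refine Nat.eq_of_mul_eq_mul_left (Nat.card_pos (α := L ⧸ E)) ?_
    rw [← h2]; ring
  obtain ⟨c, hc'⟩ := hk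
  have h4 : c * C.index = p := by
    refine Nat.eq_of_mul_eq_mul_left hp.out.pos ?_
    rw [← mul_assoc, ← hc', h3, sq]
  rcases hp.out.eq_one_or_self_of_dvd C.index (Dvd.intro_left _ h4) with h5 | h5
  · have hCtop : C = ⊤ := Subgroup.index_eq_one.mp h5
    have hLc : IsCyclic L := ⟨⟨g, fun x => by
      have hx : x ∈ C := hCtop ▸ Subgroup.mem_top x
      exact Subgroup.mem_zpowers_iff.mp hx⟩⟩
    haveI : Nontrivial L := ⟨⟨g, 1, hg1⟩⟩
    exact nontrivial_noncyclic hL hnc hLc
  · exact hnc C inferInstance h5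

/-- The elements of order dividing `p ^ 2`. -/
theorem omega_two (hp2 : p ≠ 2) [Nontrivial L] (hL : IsPGroup p L) (hmc : Cfsg.IsMetacyclic L)
    (hnc : ∀ C : Subgroup L, IsCyclic C → C.index ≠ p) :
    ∃ E W : Subgroup L, E.Normal ∧ IsMulCommutative E ∧ (∀ x, x ∈ E ↔ x ^ p = 1) ∧ Nat.card E = p ^ 2 ∧
      (∀ x, x ∈ W ↔ (x ^ p) ^ p = 1) ∧ Nat.card W = p ^ 4 ∧
      (∀ x y : W, ⁅x, y⁆ ∈ Subgroup.center W) ∧ (∀ x y : W, ⁅x, y⁆ ^ p = 1) ∧
      (∀ e ∈ E, ∃ w ∈ W, w ^ p = e) := by
  obtain ⟨E, hEn, hEc, hE, hEcard⟩ := omega_one hp2 hL hmc (nontrivial_noncyclic hL hnc)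
  haveI := hEn
  have hQnc := quotient_noncyclic hL hnc hE hEcard
  obtain ⟨F, -, hFc, hF, hFcard⟩ := omega_one hp2 (hL.to_quotient E)
    (RankTwo.isMetacyclic_of_surjective (QuotientGroup.mk' E) (QuotientGroup.mk'_surjective E) hmc) hQnc
  set W := F.comap (QuotientGroup.mk' E) with hWdef
  have hW : ∀ x, x ∈ W ↔ (x ^ p) ^ p = 1 := fun x => by
    rw [hWdef, Subgroup.mem_comap, hF, ← map_pow, QuotientGroup.mk'_apply, QuotientGroup.eq_one_iff, hE]
  have hWcard : Nat.card W = p ^ 4 := by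
    let ψ : W →* L ⧸ E := (QuotientGroup.mk' E).comp W.subtype
    have hr : ψ.range = F := by
      rw [MonoidHom.range_comp, Subgroup.range_subtype, hWdef,
        Subgroup.map_comap_eq_self_of_surjective (QuotientGroup.mk'_surjective E)]
    have hEW : E ≤ W := fun x hx => by rw [hW, (hE x).mp hx, one_pow]
    have hk : ψ.ker = E.subgroupOf W := by
      ext x
      rw [MonoidHom.mem_ker, Subgroup.mem_subgroupOf]
      exact QuotientGroup.eq_one_iff _
    have h := ψ.ker.card_mul_index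
    rw [Subgroup.index_ker, hr, hFcard, hk,
      Nat.card_congr (Subgroup.subgroupOfEquivOfLe hEW).toEquiv, hEcard] at h
    rw [← h]; ring
  have hcomE : ∀ x y : W, (⁅x, y⁆ : W).val ∈ E := by
    intro x y
    refine (QuotientGroup.eq_one_iff _).mp ?_
    show QuotientGroup.mk' E (⁅x, y⁆ : W).val = 1
    rw [show ((⁅x, y⁆ : W) : L) = ⁅(x : L), (y : L)⁆ from rfl, map_commutatorElement,
      commutatorElement_eq_one_iff_mul_comm]
    exact congrArg Subtype.val (hFc.is_comm.comm ⟨_, x.2⟩ ⟨_, y.2⟩)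
  have hexp : ∀ x y : W, ⁅x, y⁆ ^ p = 1 := fun x y => Subtype.ext (by
    rw [Subgroup.coe_pow, (hE _).mp (hcomE x y), Subgroup.coe_one])
  have hcen : ∀ x y : W, ⁅x, y⁆ ∈ Subgroup.center W := by
    obtain ⟨N, hN, hNc, hQc⟩ := RankTwo.isMetacyclic_of_injective W.subtype W.subtype_injective hmc
    haveI := hN; haveI := hNc; haveI := hQc
    have hcomN : commutator W ≤ N := by
      rw [← QuotientGroup.ker_mk' N]
      rw [commutator_def, Subgroup.commutator_le]
      intro a _ b _
      rw [MonoidHom.mem_ker, map_commutatorElement, commutatorElement_eq_one_iff_mul_comm]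
      exact IsCyclic.commGroup.mul_comm _ _
    haveI : IsCyclic (commutator W) :=
      isCyclic_of_injective (Subgroup.inclusion hcomN) (Subgroup.inclusion_injective hcomN)
    have hCexp : ∀ z ∈ commutator W, z ^ p = 1 := by
      intro z hz
      refine Subtype.ext ?_
      have hle : commutator W ≤ E.subgroupOf W := by
        rw [commutator_def, Subgroup.commutator_le]
        exact fun a _ b _ => hcomE a b
      rw [Subgroup.coe_pow, (hE (z : L)).mp (hle hz), Subgroup.coe_one]
    obtain ⟨⟨z, hz⟩, hzgen⟩ := IsCyclic.exists_ofOrder_eq_natCard (α := commutator W)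
    have hdvd : Nat.card (commutator W) ∣ p := by
      rw [← hzgen, orderOf_dvd_iff_pow_eq_one]
      exact Subtype.ext (hCexp z hz)
    intro x y
    have hmem : (⁅x, y⁆ : W) ∈ commutator W :=
      Subgroup.commutator_mem_commutator (Subgroup.mem_top x) (Subgroup.mem_top y)
    by_cases hbot : commutator W = ⊥
    · rw [hbot, Subgroup.mem_bot] at hmem
      rw [hmem]; exact one_mem _
    have hlt := PGroup.commutator_lt_of_ne_bot (hL.to_subgroup W) hbot
    have hc0 : ⁅commutator W, (⊤ : Subgroup W)⁆ = ⊥ := by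
      have h1 := PGroup.mul_card_le_of_lt (hL.to_subgroup W) hlt
      have h2 : Nat.card (commutator W) ≤ p := Nat.le_of_dvd hp.out.pos hdvd
      refine Subgroup.eq_bot_of_card_le _ ?_
      by_contra h3
      have : p * 2 ≤ p := ((Nat.mul_le_mul_left p (not_le.mp h3)).trans h1).trans h2
      have := hp.out.pos
      omega
    exact (Subgroup.commutator_top_right_eq_bot_iff_le_center.mp hc0) hmem
  refine ⟨E, W, hEn, hEc, hE, hEcard, hW, hWcard, hcen, hexp, ?_⟩
  let π : W →* L :=
    { toFun := fun w => (w : L) ^ p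
      map_one' := by simp
      map_mul' := fun x y => by
        have h : y ^ p ∈ Subgroup.center W := by
          rw [Subgroup.mem_center_iff]
          intro g
          have h1 := PGroup.classTwo_pow_commutator hcen y g p
          rw [hexp] at h1
          exact (commutatorElement_eq_one_iff_mul_comm.mp h1.symm).symm
        have := PGroup.mul_pow_classTwo hp.out hp2 hcen (x := x) (y := y) h
        simpa using congrArg Subtype.val this }
  have hrange : π.range ≤ E := by
    rintro _ ⟨w, rfl⟩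
    exact (hE _).mpr ((hW _).mp w.2)
  have hker : Nat.card π.ker = p ^ 2 := by
    rw [← hEcard]
    exact Nat.card_congr
      { toFun := fun w => ⟨(w : W).val, (hE _).mpr w.2⟩
        invFun := fun e => ⟨⟨e, (hW _).mpr (by rw [(hE _).mp e.2, one_pow])⟩, (hE _).mp e.2⟩
        left_inv := fun _ => rfl
        right_inv := fun _ => rfl }
  have h := π.ker.card_mul_index
  rw [Subgroup.index_ker, hker, hWcard, show p ^ 4 = p ^ 2 * p ^ 2 by ring] at h
  have h' : Nat.card π.range = p ^ 2 := Nat.eq_of_mul_eq_mul_left (pow_pos hp.out.pos 2) h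
  have heq : π.range = E := Subgroup.eq_of_le_of_card_ge hrange (by rw [h', hEcard])
  intro e he
  rw [← heq] at he
  obtain ⟨w, rfl⟩ := he
  exact ⟨w, w.2, rfl⟩

/-- The fixed points of an automorphism of order `p` moving an element of order `p`. -/
theorem fixedPoints_of_moves (hp2 : p ≠ 2) (hL : IsPGroup p L) (hmc : Cfsg.IsMetacyclic L)
    (hnc : ∀ C : Subgroup L, IsCyclic C → C.index ≠ p) (a : MulAut L) (ha : a ^ p = 1)
    (hmove : ∃ x : L, orderOf x = p ∧ a x ≠ x) : p = 3 ∧ Nat.card {l : L // a l = l} = p := by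
  classical
  obtain ⟨x₀, hx₀, hax₀⟩ := hmove
  haveI : Nontrivial L := ⟨⟨a x₀, x₀, hax₀⟩⟩
  obtain ⟨E, W, -, -, hE, hEcard, hW, hWcard, hcen, hexp, hsurj⟩ := omega_two hp2 hL hmc hnc
  have haW : ∀ w : W, a w ∈ W := fun w => by
    rw [hW, ← map_pow, ← map_pow, (hW _).mp w.2, map_one]
  have hodd : p % 2 = 1 := hp.out.eq_two_or_odd.resolve_left hp2
  let D : BaerTrick.BaerData W :=
    { h := (p + 1) / 2
      central := hcen
      sqroot := fun x y => by
        rw [show 2 * ((p + 1) / 2) = p + 1 by omega, pow_succ, hexp, one_mul] }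
  haveI : Finite (BaerTrick.BaerGroup D) := Finite.of_equiv W (BaerTrick.toBaer D)
  let e : W ≃ Additive (BaerTrick.BaerGroup D) := (BaerTrick.toBaer D).trans Additive.ofMul
  have hsmul : ∀ (n : ℕ) (w : W), n • e w = e (w ^ n) := fun n w =>
    congrArg Additive.ofMul (BaerTrick.toBaer_pow D w n).symm
  have he1 : e 1 = 0 := rfl
  have hzero : ∀ w : W, p • e w = 0 ↔ (w : L) ∈ E := fun w => by
    rw [hsmul, ← he1, e.apply_eq_iff_eq, hE, Subtype.ext_iff, Subgroup.coe_pow, Subgroup.coe_one]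
  let aW : W →* W :=
    { toFun := fun w => ⟨a w, haW w⟩
      map_one' := Subtype.ext (map_one a)
      map_mul' := fun x y => Subtype.ext (map_mul a _ _) }
  let f : AddMonoid.End (Additive (BaerTrick.BaerGroup D)) :=
    AddMonoidHom.mk' (fun v => e (aW (e.symm v))) fun x y => by
      obtain ⟨x, rfl⟩ := e.surjective x
      obtain ⟨y, rfl⟩ := e.surjective y
      show e (aW (BaerTrick.baerMul D.h x y)) = e (aW x) + e (aW y)
      rw [BaerTrick.map_baerMul]
      rfl
  have hfe : ∀ w, f (e w) = e (aW w) := fun w => congrArg (fun t => e (aW t)) (e.symm_apply_apply w)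
  have hfn : ∀ (n : ℕ) (w : W), ((f ^ n) (e w) : _) = e ((fun v => aW v)^[n] w) := by
    intro n
    induction n with
    | zero => exact fun w => rfl
    | succ n ih =>
      intro w
      rw [pow_succ, Function.iterate_succ_apply]
      show (f ^ n) (f (e w)) = _
      rw [hfe, ih]
  have hiter : ∀ (n : ℕ) (w : W), (((fun v => aW v)^[n] w : W) : L) = (a ^ n) w := by
    intro n
    induction n with
    | zero => exact fun w => rfl
    | succ n ih =>
      intro w
      rw [Function.iterate_succ_apply, ih, pow_succ]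
      rfl
  have hfp : f ^ p = 1 := AddMonoidHom.ext fun v => by
    obtain ⟨w, rfl⟩ := e.surjective v
    show (f ^ p) (e w) = e w
    rw [hfn]
    refine congrArg e (Subtype.ext ?_)
    rw [hiter, ha]
    rfl
  have hfix : ∀ w : W, f (e w) = e w ↔ a w = w := fun w => by
    rw [hfe, e.apply_eq_iff_eq, Subtype.ext_iff]
    rfl
  have hexpV : ∀ v : Additive (BaerTrick.BaerGroup D), p • (p • v) = 0 := fun v => by
    obtain ⟨w, rfl⟩ := e.surjective v
    rw [hsmul, hzero, hE, Subgroup.coe_pow]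
    exact (hW _).mp w.2
  have hranV : ∀ v : Additive (BaerTrick.BaerGroup D), p • v = 0 → ∃ y, p • y = v := fun v hv => by
    obtain ⟨w, rfl⟩ := e.surjective v
    obtain ⟨u, hu, huw⟩ := hsurj _ ((hzero w).mp hv)
    exact ⟨e ⟨u, hu⟩, by rw [hsmul]; exact congrArg e (Subtype.ext (by simpa using huw))⟩
  have hcardV : Nat.card {v : Additive (BaerTrick.BaerGroup D) // p • v = 0} = p ^ 2 := by
    rw [← hEcard]
    exact Nat.card_congr
      { toFun := fun v => ⟨(e.symm v.1 : W), (hzero _).mp (by rw [e.apply_symm_apply]; exact v.2)⟩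
        invFun := fun x => ⟨e ⟨x, (hW _).mpr (by rw [(hE _).mp x.2, one_pow])⟩, (hzero _).mpr x.2⟩
        left_inv := fun v => Subtype.ext (e.apply_symm_apply v.1)
        right_inv := fun x => Subtype.ext (by simp) }
  have hx₀p : x₀ ^ p = 1 := by rw [← hx₀]; exact pow_orderOf_eq_one x₀
  have hneV : ∃ v, p • v = 0 ∧ f v ≠ v := by
    refine ⟨e ⟨x₀, (hW _).mpr (by rw [hx₀p, one_pow])⟩, (hzero _).mpr ((hE _).mpr hx₀p), ?_⟩
    rw [Ne, hfix]; exact hax₀
  obtain ⟨h3, hK, hcardfix⟩ := linear_core hp2 hexpV hranV hcardV f hfp hneV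
  refine ⟨h3, ?_⟩
  have key : ∀ (k : ℕ) (l : L), a l = l → l ^ p ^ k = 1 → l ^ p = 1 := by
    intro k
    induction k with
    | zero => intro l _ hl; rw [pow_zero, pow_one] at hl; rw [hl, one_pow]
    | succ k ih =>
      intro l hal hl
      rw [pow_succ', pow_mul] at hl
      have h1 : (l ^ p) ^ p = 1 := ih (l ^ p) (by rw [map_pow, hal]) hl
      have h2 := (hfix ⟨l, (hW l).mpr h1⟩).mpr hal
      exact (hE l).mp ((hzero ⟨l, (hW l).mpr h1⟩).mp (hK _ h2))
  have hin : ∀ l : L, a l = l → l ∈ W := fun l hal => by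
    obtain ⟨k, hk⟩ := hL l
    rw [hW, key k l hal hk, one_pow]
  rw [← hcardfix]
  exact Nat.card_congr
    { toFun := fun l => ⟨e ⟨l, hin l l.2⟩, (hfix _).mpr l.2⟩
      invFun := fun v => ⟨(e.symm v.1 : W), (hfix _).mp (by rw [e.apply_symm_apply]; exact v.2)⟩
      left_inv := fun l => Subtype.ext (by simp)
      right_inv := fun v => Subtype.ext (e.apply_symm_apply v.1) }

end Cfsg.Agent.MetaAutOrd
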